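import Cfsg.Agent.Lib.Recog.SporBound.J3TSub.Data

set_option autoImplicit false
set_option maxRecDepth 20000
set_option Elab.async false

/-! Checks of the certificate, part 0. -/

namespace CfsgLib.Recog.SporBound.J3TSub
open CfsgLib.Recog.SporBound
open CfsgLib.ThreeTrans.CosetIndex (forallFrom)

theorem defs0 : forallFrom cert.defOK 0 339 = true := by decide +kernel

theorem steps0 : cert.stepsPart 0 8 = true := by decide +kernel

theorem finals0 : cert.finalsPart 0 6 = true := by decide +kernel

end CfsgLib.Recog.SporBound.J3TSub
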